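import Mathlib.RingTheory.DedekindDomain.Different
import Mathlib.RingTheory.FractionalIdeal.Extended

/-! # The different commutes with localization of the base -/

set_option autoImplicit false
universe u

namespace Groth.Agent.Lib.Helper18.DiffLoc

open nonZeroDivisors Submodule FractionalIdeal Algebra

section

variable (A B : Type u) [CommRing A] [CommRing B] [IsDomain A] [IsDomain B]
  [Algebra A B] [Module.Finite A B]
  (S : Submonoid A)
  (Aₛ Bₛ : Type u) [CommRing Aₛ] [CommRing Bₛ] [Algebra A Aₛ] [Algebra B Bₛ] [Algebra Aₛ Bₛ]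
  [Algebra A Bₛ] [IsScalarTower A Aₛ Bₛ] [IsScalarTower A B Bₛ]
  [IsLocalization S Aₛ] [IsLocalization (Algebra.algebraMapSubmonoid B S) Bₛ]
  (K L : Type u) [Field K] [Field L] [Algebra A K] [IsFractionRing A K] [Algebra B L]
  [Algebra K L] [Algebra A L] [IsScalarTower A K L] [IsScalarTower A B L]
  [Algebra Aₛ K] [IsScalarTower A Aₛ K] [Algebra Bₛ L] [IsScalarTower B Bₛ L]
  [Algebra Aₛ L] [IsScalarTower Aₛ K L] [IsScalarTower Aₛ Bₛ L]

include S in
theorem traceDual_le (hS : S ≤ A⁰) :
    Submodule.span Bₛ ((Submodule.traceDual A K (1 : Submodule B L)) : Set L) ≤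
      Submodule.traceDual Aₛ K (1 : Submodule Bₛ L) := by
  rw [Submodule.span_le]
  intro x hx
  rw [SetLike.mem_coe, Submodule.mem_traceDual] at hx ⊢
  intro y hy
  obtain ⟨y', rfl⟩ := Submodule.mem_one.1 hy
  obtain ⟨b, ⟨_, s, hs, rfl⟩, hb⟩ :=
    IsLocalization.exists_mk'_eq (Algebra.algebraMapSubmonoid B S) y'
  obtain ⟨a, ha⟩ := hx (algebraMap B L b) (Submodule.mem_one.2 ⟨b, rfl⟩)
  have hs0 : algebraMap A K s ≠ 0 := by
    intro h
    have := (IsFractionRing.injective A K) (h.trans (map_zero _).symm)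
    exact (nonZeroDivisors.ne_zero (hS hs)) this
  have hy : algebraMap Bₛ L y' * algebraMap K L (algebraMap A K s) = algebraMap B L b := by
    rw [← hb, ← IsScalarTower.algebraMap_apply A K L, IsScalarTower.algebraMap_apply A B L,
      IsScalarTower.algebraMap_apply B Bₛ L, ← map_mul, IsLocalization.mk'_spec]
    exact (IsScalarTower.algebraMap_apply B Bₛ L b).symm
  refine ⟨IsLocalization.mk' Aₛ a ⟨s, hs⟩, ?_⟩
  rw [traceForm_apply] at ha ⊢
  have h1 : Algebra.trace K L (x * algebraMap Bₛ L y') * algebraMap A K s = algebraMap A K a := by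
    rw [ha, ← hy, ← mul_assoc, mul_comm _ (algebraMap K L _), ← Algebra.smul_def, map_smul,
      smul_eq_mul, mul_comm]
  have h2 : algebraMap Aₛ K (IsLocalization.mk' Aₛ a ⟨s, hs⟩) * algebraMap A K s =
      algebraMap A K a := by
    rw [IsScalarTower.algebraMap_apply A Aₛ K s, ← map_mul, IsLocalization.mk'_spec,
      ← IsScalarTower.algebraMap_apply]
  exact mul_right_cancel₀ hs0 (h2.trans h1.symm)

include S in
theorem le_traceDual (hS : S ≤ A⁰) :
    Submodule.traceDual Aₛ K (1 : Submodule Bₛ L) ≤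
      Submodule.span Bₛ ((Submodule.traceDual A K (1 : Submodule B L)) : Set L) := by
  intro x hx
  rw [Submodule.mem_traceDual] at hx
  obtain ⟨n, b, hb⟩ := Module.Finite.exists_fin (R := A) (M := B)
  have hα : ∀ i, ∃ α : Aₛ, algebraMap Aₛ K α = Algebra.trace K L (x * algebraMap B L (b i)) := by
    intro i
    have := hx (algebraMap Bₛ L (algebraMap B Bₛ (b i))) (Submodule.mem_one.2 ⟨_, rfl⟩)
    rw [traceForm_apply, ← IsScalarTower.algebraMap_apply] at this
    exact this
  choose α hα using hα
  obtain ⟨s, hs⟩ := IsLocalization.exist_integer_multiples S Finset.univ α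
  have hsx : algebraMap A L s * x ∈ Submodule.traceDual A K (1 : Submodule B L) := by
    rw [Submodule.mem_traceDual]
    intro y hy
    obtain ⟨y', rfl⟩ := Submodule.mem_one.1 hy
    rw [traceForm_apply]
    let φ : B →ₗ[A] K :=
      ((Algebra.trace K L).restrictScalars A).comp
        ((LinearMap.mulLeft A (algebraMap A L s * x)).comp
          (IsScalarTower.toAlgHom A B L).toLinearMap)
    have hφ : ∀ z, φ z = Algebra.trace K L (algebraMap A L s * x * algebraMap B L z) := fun z => rfl
    have hle : Submodule.map φ ⊤ ≤ LinearMap.range (Algebra.linearMap A K) := by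
      rw [← hb, Submodule.map_span, Submodule.span_le]
      rintro _ ⟨_, ⟨i, rfl⟩, rfl⟩
      obtain ⟨a, ha⟩ := hs i (Finset.mem_univ i)
      refine ⟨a, ?_⟩
      rw [Algebra.linearMap_apply, hφ, mul_assoc, IsScalarTower.algebraMap_apply A K L,
        ← Algebra.smul_def, map_smul, ← hα, IsScalarTower.algebraMap_apply A Aₛ K, ha,
        Algebra.smul_def, Algebra.smul_def, map_mul, ← IsScalarTower.algebraMap_apply A Aₛ K]
      rfl
    obtain ⟨a, ha⟩ := hle ⟨y', Submodule.mem_top, rfl⟩
    exact ⟨a, ha⟩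
  have hs0 : algebraMap A L (s : A) ≠ 0 := by
    rw [IsScalarTower.algebraMap_apply A K L]
    intro h
    have h2 := (algebraMap K L).injective (h.trans (map_zero _).symm)
    have := (IsFractionRing.injective A K) (h2.trans (map_zero _).symm)
    exact (nonZeroDivisors.ne_zero (hS s.2)) this
  have hmem := Submodule.smul_mem (Submodule.span Bₛ
      ((Submodule.traceDual A K (1 : Submodule B L)) : Set L))
    (IsLocalization.mk' Bₛ (1 : B) ⟨algebraMap A B s, Algebra.mem_algebraMapSubmonoid_of_mem s⟩)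
    (Submodule.subset_span hsx)
  convert hmem using 1
  rw [Algebra.smul_def, ← mul_right_inj' hs0, ← mul_assoc, IsScalarTower.algebraMap_apply A B L,
    IsScalarTower.algebraMap_apply B Bₛ L, ← map_mul]
  rw [mul_comm (algebraMap B Bₛ _), IsLocalization.mk'_spec, map_one, map_one, one_mul]

end

end Groth.Agent.Lib.Helper18.DiffLoc
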