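import Groth.Agent.Lib.Helper18.DiffLoc.Basic

/-! # The different commutes with localization of the base: fractional ideal argument -/

set_option autoImplicit false
universe u

namespace Groth.Agent.Lib.Helper18.DiffLoc

open nonZeroDivisors Submodule FractionalIdeal Algebra

section

variable (A B : Type u) [CommRing A] [CommRing B] [IsDedekindDomain A] [IsDedekindDomain B]
  [Algebra A B] [Module.Finite A B] [Module.IsTorsionFree A B]
  (S : Submonoid A)
  (Aₛ Bₛ : Type u) [CommRing Aₛ] [CommRing Bₛ] [Algebra A Aₛ] [Algebra B Bₛ] [Algebra Aₛ Bₛ]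
  [Algebra A Bₛ] [IsScalarTower A Aₛ Bₛ] [IsScalarTower A B Bₛ]
  [IsLocalization S Aₛ] [IsLocalization (Algebra.algebraMapSubmonoid B S) Bₛ]
  [IsDomain Aₛ] [IsIntegrallyClosed Aₛ] [IsDedekindDomain Bₛ] [Module.IsTorsionFree Aₛ Bₛ]
  (K L : Type u) [Field K] [Field L] [Algebra A K] [IsFractionRing A K] [Algebra B L]
  [IsFractionRing B L]
  [Algebra K L] [Algebra A L] [IsScalarTower A K L] [IsScalarTower A B L]
  [FiniteDimensional K L] [Algebra.IsSeparable K L]
  [Algebra Aₛ K] [IsScalarTower A Aₛ K] [Algebra Bₛ L] [IsScalarTower B Bₛ L]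
  [Algebra Aₛ L] [IsScalarTower Aₛ K L] [IsScalarTower Aₛ Bₛ L]

include S K L in
theorem map_differentIdeal (hS : S ≤ A⁰) :
    Ideal.map (algebraMap B Bₛ) (differentIdeal A B) = differentIdeal Aₛ Bₛ := by
  haveI : IsFractionRing Aₛ K :=
    IsFractionRing.isFractionRing_of_isDomain_of_isLocalization S Aₛ K
  haveI : IsFractionRing Bₛ L :=
    IsFractionRing.isFractionRing_of_isDomain_of_isLocalization
      (Algebra.algebraMapSubmonoid B S) Bₛ L
  haveI : Module.Finite Aₛ Bₛ := Module.Finite.of_isLocalization A B S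
  have hinj : Function.Injective (algebraMap B Bₛ) := by
    have h := IsFractionRing.injective B L
    rw [IsScalarTower.algebraMap_eq B Bₛ L] at h
    exact Function.Injective.of_comp h
  have hf : B⁰ ≤ Submonoid.comap (algebraMap B Bₛ) Bₛ⁰ :=
    nonZeroDivisors_le_comap_nonZeroDivisors_of_injective _ hinj
  have hmap : (IsLocalization.map (S := L) L (algebraMap B Bₛ) hf : L →+* L) = RingHom.id L := by
    apply IsLocalization.ringHom_ext B⁰
    ext b
    simp only [RingHom.comp_apply, IsLocalization.map_eq, RingHom.id_apply]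
    exact (IsScalarTower.algebraMap_apply B Bₛ L b).symm
  have hdual : extendedHom' (K := L) L hf (dual A K (1 : FractionalIdeal B⁰ L)) =
      dual Aₛ K (1 : FractionalIdeal Bₛ⁰ L) := by
    apply FractionalIdeal.coeToSubmodule_injective
    show ((extended L hf (dual A K (1 : FractionalIdeal B⁰ L)) : FractionalIdeal Bₛ⁰ L) :
      Submodule Bₛ L) = ((dual Aₛ K (1 : FractionalIdeal Bₛ⁰ L) : FractionalIdeal Bₛ⁰ L) :
      Submodule Bₛ L)
    have hset : ((dual A K (1 : FractionalIdeal B⁰ L) : FractionalIdeal B⁰ L) : Set L) =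
        ((Submodule.traceDual A K (1 : Submodule B L)) : Set L) := by
      rw [← coe_dual_one]; rfl
    rw [coe_extended_eq_span, coe_dual_one, hset, hmap]
    simp only [RingHom.id_apply, Set.image_id']
    exact le_antisymm (traceDual_le A B S Aₛ Bₛ K L hS) (le_traceDual A B S Aₛ Bₛ K L hS)
  apply FractionalIdeal.coeIdeal_injective (K := L)
  show ((Ideal.map (algebraMap B Bₛ) (differentIdeal A B) : Ideal Bₛ) : FractionalIdeal Bₛ⁰ L) =
    ((differentIdeal Aₛ Bₛ : Ideal Bₛ) : FractionalIdeal Bₛ⁰ L)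
  rw [coeIdeal_differentIdeal Aₛ K L Bₛ, ← hdual, ← map_inv₀, ← coeIdeal_differentIdeal A K L B,
    extendedHom'_apply, extended_coeIdeal_eq_map]

end

end Groth.Agent.Lib.Helper18.DiffLoc
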